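import Mathlib.CategoryTheory.Linear.Basic
import Mathlib.LinearAlgebra.Dual.Lemmas

set_option autoImplicit false
universe w v u
open CategoryTheory

namespace Groth.Agent.Serre.Basic

variable {k : Type w} [Field k] {T : Type u} [Category.{v} T] [Preadditive T] [Linear k T]

/-- The flipped pairing: if `V ≅ W^∨` with `W` finite dimensional, then `W ≅ V^∨`. -/
noncomputable def flipEquiv {V W : Type v} [AddCommGroup V] [Module k V] [AddCommGroup W] [Module k W]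
    [Module.Finite k W] (c : V ≃ₗ[k] Module.Dual k W) : W ≃ₗ[k] Module.Dual k V :=
  Module.evalEquiv k W ≪≫ₗ c.dualMap

@[simp] theorem flipEquiv_apply {V W : Type v} [AddCommGroup V] [Module k V] [AddCommGroup W]
    [Module k W] [Module.Finite k W] (c : V ≃ₗ[k] Module.Dual k W) (w : W) (x : V) :
    flipEquiv c w x = c x w := by
  simp [flipEquiv, Module.evalEquiv]

/-- Two objects representing the same functor `Y ↦ Hom(X, Y)^∨` are uniquely isomorphic. -/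
theorem existsUnique_iso {A B X : T} (p : ∀ Y, (Y ⟶ A) ≃ₗ[k] Module.Dual k (X ⟶ Y))
    (q : ∀ Y, (Y ⟶ B) ≃ₗ[k] Module.Dual k (X ⟶ Y))
    (hp : ∀ (Y Y' : T) (h : Y' ⟶ Y) (g : Y ⟶ A) (f : X ⟶ Y'), p Y' (h ≫ g) f = p Y g (f ≫ h))
    (hq : ∀ (Y Y' : T) (h : Y' ⟶ Y) (g : Y ⟶ B) (f : X ⟶ Y'), q Y' (h ≫ g) f = q Y g (f ≫ h)) :
    ∃! φ : A ≅ B, ∀ (Y : T) (g : Y ⟶ A), q Y (g ≫ φ.hom) = p Y g := by
  have hu : ∀ (Y : T) (g : Y ⟶ A), q Y (g ≫ (q A).symm (p A (𝟙 A))) = p Y g := by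
    intro Y g
    ext f
    rw [hq A Y g, LinearEquiv.apply_symm_apply, ← hp A Y g, Category.comp_id]
  have hv : ∀ (Y : T) (g : Y ⟶ B), p Y (g ≫ (p B).symm (q B (𝟙 B))) = q Y g := by
    intro Y g
    ext f
    rw [hp B Y g, LinearEquiv.apply_symm_apply, ← hq B Y g, Category.comp_id]
  refine ⟨⟨(q A).symm (p A (𝟙 A)), (p B).symm (q B (𝟙 B)), ?_, ?_⟩, hu, ?_⟩
  · apply (p A).injective
    rw [hv, LinearEquiv.apply_symm_apply]
  · apply (q B).injective
    rw [hu, LinearEquiv.apply_symm_apply]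
  · intro φ hφ
    apply Iso.ext
    rw [LinearEquiv.eq_symm_apply]
    simpa using hφ A (𝟙 A)

end Groth.Agent.Serre.Basic
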